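import Mathlib
import Cfsg.Prelude.Def_PLocal
import Cfsg.Agent.Lib.ZJ.Replacement
import Cfsg.Agent.Lib.Core.MinNormal

/-! # Two replacement theorems -/

set_option autoImplicit false

namespace CfsgLib.LocA

open Subgroup Cfsg CfsgLib.ZJ
open scoped commutatorElement

variable {G : Type*} [Group G] {A : Subgroup G} {b : G}

theorem gen_mem {a : G} (ha : a ∈ A) : a * b⁻¹ * a⁻¹ * b ∈ repl A b :=
  mem_sup_right (subset_closure ⟨a, ha, rfl⟩)

theorem conj_mem {a : G} (ha : a ∈ A) : b⁻¹ * a * b ∈ conjInv A b := by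
  rw [mem_conjInv]; simpa [mul_assoc] using ha

theorem repl_le {X : Subgroup G} (h1 : A ⊓ conjInv A b ≤ X) (h2 : ∀ a ∈ A, a * b⁻¹ * a⁻¹ * b ∈ X) :
    repl A b ≤ X := sup_le h1 ((closure_le _).2 (by rintro _ ⟨a, ha, rfl⟩; exact h2 a ha))

theorem repl_le_sup : repl A b ≤ A ⊔ conjInv A b :=
  repl_le (inf_le_left.trans le_sup_left) fun a ha => by
    simpa only [mul_assoc] using mul_mem (mem_sup_left ha) (mem_sup_right (conj_mem (inv_mem ha)))

theorem conjInv_le : conjInv A b ≤ repl A b ⊔ A := fun g hg => by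
  have ha := A.inv_mem (mem_conjInv.mp hg)
  convert mul_mem (mem_sup_right (A.inv_mem ha)) (mem_sup_left (gen_mem ha) : _ ∈ repl A b ⊔ A) using 1
  group

theorem conjInv_le_normalClosure : conjInv A b ≤ normalClosure (A : Set G) := fun g hg => by
  simpa [mul_assoc] using normalClosure_normal.conj_mem _ (subset_normalClosure (mem_conjInv.1 hg)) b⁻¹

theorem repl_le_normalClosure : repl A b ≤ normalClosure (A : Set G) :=
  repl_le_sup.trans (sup_le le_normalClosure conjInv_le_normalClosure)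

theorem card_conjInv : Nat.card (conjInv A b) = Nat.card A :=
  card_map_of_injective (MulAut.conj (b⁻¹)).injective

theorem card_repl (h1 : conjInv A b ≤ normalizer (A : Set G)) (h2 : A ⊓ repl A b ≤ conjInv A b) :
    Nat.card (repl A b) = Nat.card A := by
  have h3 := card_inf_mul_relIndex A (repl A b)
  rwa [le_antisymm (le_inf inf_le_left h2) (le_inf inf_le_left le_sup_left),
    ← relIndex_sup_of_le_normalizer (repl_le_sup.trans (sup_le le_normalizer h1)),
    le_antisymm (sup_le (repl_le_sup.trans (sup_comm _ _).le) le_sup_right) (sup_le conjInv_le le_sup_right),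
    relIndex_sup_of_le_normalizer h1, card_inf_mul_relIndex, card_conjInv, eq_comm] at h3

variable [Finite G]

theorem centralizer_le_of_max (hA : A ∈ maxAbelianSubgroups G) : centralizer (A : Set G) ≤ A := fun x hx => by
  have h1 : IsMulCommutative (A ⊔ zpowers x : Subgroup G) := by
    have h2 : A ⊔ zpowers x ≤ centralizer ((A ⊔ zpowers x : Subgroup G) : Set G) := by
      have h3 : A ≤ centralizer (A : Set G) := have := hA.1; le_centralizer A
      refine sup_le ?_ (zpowers_le.2 ?_)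
      · exact le_centralizer_iff.1 (sup_le h3 (zpowers_le.2 hx))
      · exact le_centralizer_iff.1 (sup_le (le_centralizer_iff.1 (zpowers_le.2 hx)) (le_centralizer _))
          (mem_zpowers x)
    exact le_centralizer_iff_isMulCommutative.1 h2
  exact (eq_of_le_of_card_ge le_sup_left (hA.2 _ h1)).ge (mem_sup_right (mem_zpowers x))

theorem s3063 {p : ℕ} [Fact p.Prime] (hS : IsPGroup p G) (hm : IsMulCommutative (_root_.commutator G))
    (A₀ : Subgroup G) (hA₀ : A₀ ∈ maxAbelianSubgroups G) :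
    ∃ B ∈ maxAbelianSubgroups G, B.Normal ∧ B ≤ normalClosure (A₀ : Set G) := by
  obtain ⟨A, ⟨hA, hle⟩, hmax⟩ := (Set.toFinite {A | A ∈ maxAbelianSubgroups G ∧
    A ≤ normalClosure (A₀ : Set G)}).exists_maximalFor (fun A => A ⊓ _root_.commutator G) _
      ⟨A₀, hA₀, le_normalClosure⟩
  refine ⟨A, hA, normalizer_eq_top_iff.1 (by_contra fun hn => ?_), hle⟩
  have := hS.isNilpotent
  obtain ⟨b, hb, hb'⟩ := SetLike.exists_of_lt (Group.normalizerCondition_of_isNilpotent _ (lt_top_iff_ne_top.2 hn))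
  have h1 : conjInv A b ≤ normalizer (A : Set G) := fun g hg => by
    simpa [mul_assoc] using inv_conj_mem_of_mem_normalizer hb (le_normalizer (mem_conjInv.mp hg))
  have hc : conjInv A b ∈ maxAbelianSubgroups G :=
    ⟨have := hA.1; inferInstance, fun B hB => card_conjInv (A := A) (b := b) ▸ hA.2 B hB⟩
  have hg : ∀ a : G, a * b⁻¹ * a⁻¹ * b ∈ _root_.commutator G := fun a => by
    simpa [commutatorElement_def, commutator_def] using commutator_mem_commutator (mem_top a) (mem_top b⁻¹)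
  have hAc : A ≤ centralizer (A : Set G) := have := hA.1; le_centralizer A
  have hD : A ⊓ conjInv A b ≤ centralizer (repl A b : Set G) := le_centralizer_iff.1
    (repl_le_sup.trans (sup_le (hAc.trans (centralizer_le (inf_le_left (a := A))))
      ((have := hc.1; le_centralizer _).trans (centralizer_le (inf_le_right (a := A))))))
  have key : ∀ x ∈ _root_.commutator G, A ⊓ conjInv A b ≤ centralizer {x} → repl A b ≤ centralizer {x} :=
    fun x hx h => repl_le h fun a _ => mem_centralizer_singleton_iff.2 (mul_comm_of_isMulCommutative hm (hg a) hx)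
  have h2 : repl A b ≤ centralizer (repl A b : Set G) := repl_le hD fun a ha y hy =>
    mem_centralizer_singleton_iff.1 (key _ (hg a)
      (fun d hd => mem_centralizer_singleton_iff.2 (hD hd _ (gen_mem ha)).symm) hy)
  have h3 : ∀ x ∈ A, repl A b ≤ centralizer {x} → x ∈ conjInv A b := fun x hx h =>
    centralizer_le_of_max hc fun y hy => mem_centralizer_singleton_iff.1 ((conjInv_le.trans (sup_le h
      fun a ha => mem_centralizer_singleton_iff.2 (hAc hx a ha))) hy)
  have h4 := card_repl h1 fun x hx => h3 x hx.1 fun y hy => mem_centralizer_singleton_iff.2 (h2 hx.2 y hy)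
  have h5 := hmax (j := repl A b) ⟨⟨le_centralizer_iff_isMulCommutative.1 h2, fun B hB => h4 ▸ hA.2 B hB⟩,
    repl_le_normalClosure.trans (normalClosure_le_normal hle)⟩ fun x hx => ⟨mem_sup_left ⟨hx.1, h3 x hx.1
      (key x hx.2 fun d hd => mem_centralizer_singleton_iff.2 (hAc hx.1 d hd.1))⟩, hx.2⟩
  refine hb' (inv_mem_iff.1 (mem_normalizer_of_conj_mem fun a ha => ?_))
  convert mul_mem ha (h5 ⟨gen_mem (inv_mem ha), hg _⟩).1 using 1
  group

theorem s3078 {p : ℕ} [Fact p.Prime] (hp : p ≠ 2) (hG : IsPGroup p G) (A B : Subgroup G)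
    (hA : IsMulCommutative A) (hBA : ⁅B, B⁆ ≤ A) (hAB : A ≤ normalizer (B : Set G))
    (hBnA : ¬ B ≤ normalizer (A : Set G)) : ∃ Astar : Subgroup G, IsMulCommutative Astar ∧
      Nat.card Astar = Nat.card A ∧ A ⊓ B < Astar ⊓ B ∧ Astar ≤ normalizer (A : Set G) ∧
      Astar ≤ normalClosure (A : Set G) ∧ Monoid.exponent Astar ∣ Monoid.exponent A ∧
      Nat.card (omegaOne p A) ≤ Nat.card (omegaOne p Astar) := by
  have hS : A ⊔ B ≤ normalizer (B : Set G) := sup_le hAB le_normalizer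
  have ho : Odd p := (Fact.out : p.Prime).odd_of_ne_two hp
  obtain ⟨b, hb, h1, h2⟩ := exists_repl_element (hG.to_subgroup (A ⊔ B)) le_sup_right hS hBnA
  have h : ReplSetup A _ B b := ⟨hA, le_inf le_sup_left le_normalizer, inf_le_right, inf_le_left.trans hS,
    hb, h1, hBA⟩
  refine ⟨repl A b, h.repl_comm (.inl (eq_one_of_sq_eq_one_of_isPGroup hp (hG.to_subgroup B))), h.card_repl,
    h.inf_lt h2, h.repl_le_N.trans h.N_le, repl_le_normalClosure, ?_, ?_⟩
  · refine Monoid.exponent_dvd_of_forall_pow_eq_one fun g => Subtype.ext (h.pow_eq_one (.inl ?_)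
      (fun a ha => congrArg Subtype.val (Monoid.pow_exponent_eq_one (⟨a, ha⟩ : A))) g g.2)
    obtain ⟨k, hk⟩ := IsPGroup.iff_card.1 (hG.to_subgroup A)
    exact (hk ▸ ho.pow).of_dvd_nat Group.exponent_dvd_nat_card
  have m : ∀ {x}, x ∈ omegaOne p A ↔ x ∈ A ∧ x ^ p = 1 := Core.mem_omegaOne_iff_of_isMulCommutative
  have hle : repl (omegaOne p A) b ≤ repl A b := repl_le (le_sup_of_le_left (inf_le_inf
    (Core.omegaOne_le p A) (map_mono (Core.omegaOne_le p A)))) fun a ha => gen_mem (m.1 ha).1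
  rw [← card_repl (b := b) (fun x hx => mem_normalizer_of_conj_mem fun a ha => m.2
      ⟨conj_mem_of_mem_normalizer (h.N_le (h.conjInv_le_N (map_mono (Core.omegaOne_le p A) hx))) (m.1 ha).1,
        by rw [conj_pow, (m.1 ha).2]; simp⟩) fun x hx => mem_conjInv.2 (m.2
      ⟨mem_conjInv.1 (h.inf_repl.le ⟨(m.1 hx.1).1, hle hx.2⟩).2, by rw [conj_pow, (m.1 hx.1).2]; simp⟩)]
  refine card_le_of_le (repl_le (fun x hx => Core.mem_omegaOne (hle (mem_sup_left hx)) (m.1 hx.1).2)
    fun a ha => Core.mem_omegaOne (hle (gen_mem ha)) ?_)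
  obtain ⟨h3, h4⟩ := m.1 ha
  have hy := h.conj_mem (A.inv_mem h3)
  have hc := h.commutator_mem (inv_mem hy) (A.inv_mem h3)
  have h5 : (b⁻¹ * a⁻¹ * b) ^ p = 1 := by
    rw [show b⁻¹ * a⁻¹ * b = b⁻¹ * a⁻¹ * b⁻¹⁻¹ by simp, conj_pow, inv_pow, h4]; simp
  rw [show a * b⁻¹ * a⁻¹ * b = a * (b⁻¹ * a⁻¹ * b) by group]
  generalize b⁻¹ * a⁻¹ * b = y at hy hc h5
  have c1 : Commute ⁅y⁻¹, a⁻¹⁆ a := mul_comm_of_isMulCommutative hA hc.1 h3
  have e1 : y * a = a * y * ⁅y⁻¹, a⁻¹⁆ := by rw [commutatorElement_def]; group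
  have h6 : ⁅y⁻¹, a⁻¹⁆ ^ p = 1 := by
    have h7 : y⁻¹ * a⁻¹ * y⁻¹⁻¹ = ⁅y⁻¹, a⁻¹⁆ * a⁻¹ := by rw [commutatorElement_def]; group
    have h8 := congrArg (· ^ p) h7
    simpa only [conj_pow, c1.inv_right.mul_pow, inv_pow, h4, inv_one, mul_one, mul_inv_cancel, eq_comm] using h8
  rw [mul_pow_of_class_two e1 c1 (h.conjInv_comm hc.2 hy), h4, h5]
  obtain ⟨k, rfl⟩ := ho
  rw [Nat.choose_two_right, Nat.add_sub_cancel, mul_left_comm, Nat.mul_div_cancel_left _ two_pos, pow_mul, h6]
  simp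

end CfsgLib.LocA
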